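import Groth.Agent.Vanish.K104.RelVan
import Groth.Agent.Vanish.K911.Ncd
import Groth.Agent.Picfga.CurveRelDim
import Groth.Agent.S1628
import Groth.Agent.Vancyc.H878.OmegaRank
import Groth.Agent.Krr.H495.Rank
import Groth.Agent.Dual.H366.ExtQCoh
import Groth.Agent.S0927
import Groth.Agent.Variety.K424.TrdMap
import Groth.Agent.Divis.IdealComap
import Groth.Agent.Divis.EffCartier
import Groth.Agent.Dix.IdealModCartier
import Groth.Agent.Fdesc.LocGenTensor
import Groth.Prelude.Def_EGA4Misc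

/-!
# The vanishing of `R^b τ_*(τ^* L^{-i} ⊗ O([iΔ/N]))` (statement S17124), assembly

`Van k`: the statement of S17114; `Push k`: `τ_*(ω_{X'}(-[τ^*D/N])) = ω_X(-[D/N])`.
-/

set_option autoImplicit false

universe u

open CategoryTheory CategoryTheory.Limits AlgebraicGeometry TopologicalSpace Opposite

namespace K104.Asm17124

open Groth.Agent Groth.Agent.Fdesc

/-- The statement of S17114. -/
def Van (k : Type u) [Field k] : Prop :=
  ∀ (X : Scheme.{u}) [X.Over (Spec (CommRingCat.of k))] [IsIntegral X] [Smooth (X ↘ Spec (CommRingCat.of k))]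
    (n : ℕ) (_ : topologicalKrullDim X = n)
    (Z : Scheme.{u}) [Z.Over (Spec (CommRingCat.of k))] [IsIntegral Z] [IsSeparated (Z ↘ Spec (CommRingCat.of k))]
    [LocallyOfFiniteType (Z ↘ Spec (CommRingCat.of k))] [CompactSpace Z]
    (f : X ⟶ Z) (_ : f ≫ (Z ↘ Spec (CommRingCat.of k)) = X ↘ Spec (CommRingCat.of k)) [IsProper f] [Surjective f]
    (_ : RadPt.IsBirational f)
    (Δ : Z.IdealSheafData) (_ : PicF.IsInvertible (ClSub.idealMod Δ))
    {r : ℕ} (D : Fin r → X.IdealSheafData) (_ : LogNCD.IsNCD D (X ↘ Spec (CommRingCat.of k))) (α : Fin r → ℕ)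
    (_ : Δ.comap f = ∏ j, D j ^ α j) (N : ℕ) (_ : 1 ≤ N)
    (ω : X.Modules) (_ : ExtPow.IsExtPow n (Omega.sheaf (X ↘ Spec (CommRingCat.of k))) ω)
    [HasInjectiveResolutions X.Modules] (b : ℕ) (_ : 0 < b),
    IsZero ((Coh.Rpush f b).obj (CohB1.tensorMod ω (ClSub.idealMod (∏ j, D j ^ (α j / N)))))

/-- Direct images of twisted canonical modules. -/
def Push (k : Type u) [Field k] : Prop :=
  ∀ (n : ℕ) {X X' : Scheme.{u}}
    (f : X ⟶ Spec (CommRingCat.of k)) (τ : X' ⟶ X) [IsIntegral X] [IsIntegral X']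
    [QuasiCompact f] [IsSeparated f]
    [SmoothOfRelativeDimension n f] [SmoothOfRelativeDimension n (τ ≫ f)] [IsProper τ]
    (_ : RadPt.IsBirational τ)
    {W : X.Modules} (_ : ExtPow.IsExtPow n (Omega.sheaf f) W)
    {W₁ : X'.Modules} (_ : ExtPow.IsExtPow n (Omega.sheaf (τ ≫ f)) W₁)
    {r : ℕ} (D : Fin r → X.IdealSheafData) (_ : LogNCD.IsNCD D f)
    {s : ℕ} (Δ : Fin s → X'.IdealSheafData) (_ : LogNCD.IsNCD Δ (τ ≫ f))
    (m : Fin r → Fin s → ℕ) (_ : ∀ j, (D j).comap τ = ∏ c, Δ c ^ m j c)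
    (N : ℕ) (_ : 1 ≤ N) (β : Fin r → ℕ),
    ∃ e : CohB1.tensorMod W (ClSub.idealMod (∏ j, D j ^ (β j / N))) ⟶
      (Scheme.Modules.pushforward τ).obj
        (CohB1.tensorMod W₁ (ClSub.idealMod (∏ c, Δ c ^ ((∑ j, β j * m j c) / N)))), IsIso e

theorem isEff_prod_pow {X S : Scheme.{u}} {f : X ⟶ S} {r : ℕ} {D : Fin r → X.IdealSheafData}
    (hD : LogNCD.IsNCD D f) [Smooth f] (α : Fin r → ℕ) : BlowUp.IsEffCartierIdeal (∏ j, D j ^ α j) := by
  classical
  have h : ∀ t : Finset (Fin r), BlowUp.IsEffCartierIdeal (∏ j ∈ t, D j ^ α j) := by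
    intro t
    induction t using Finset.induction_on with
    | empty => exact Divis.EffCartier.isEff_top
    | insert i t hi ih =>
      rw [Finset.prod_insert hi]
      exact Divis.EffCartier.isEff_mul (Divis.EffCartier.isEff_pow (K911.Ncd.isEff_of_isNCD hD i) (α i)) ih
  exact h _

theorem isInvertible_extPow {X : Scheme.{u}} {m : ℕ} {E L : X.Modules} (hE : FlatMod.IsFinLocFreeOfRank m E)
    (hL : ExtPow.IsExtPow m E L) : PicF.IsInvertible L := by
  rw [← Ega2.QCohLocal.isFinLocFreeOfRank_one_iff, Krr.H495.Rank.isFinLocFreeOfRank_iff]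
  have hE' := Krr.H495.Rank.isFinLocFree_of_rank hE
  refine ⟨Sga67.LocBasis.isFinLocFree_of_isExtPow hE' hL, fun x => ?_⟩
  rw [Krr.H495.Rank.rk_extPow hE' hL, Krr.H495.Rank.rk_of_rank hE, Nat.choose_self]

theorem isFinLocFree_of_isInvertible {X : Scheme.{u}} {L : X.Modules} (hL : PicF.IsInvertible L) :
    FlatMod.IsFinLocFree L := by
  intro x
  obtain ⟨U, hU, ⟨e⟩⟩ := hL x
  refine ⟨U, 1, hU, ⟨e ≪≫ ?_⟩⟩
  exact (Limits.coproductUniqueIso (fun _ : Fin 1 => Coh.structureModule (↑U : Scheme.{u}))).symm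

theorem isIntegral_of_smooth {k : Type u} [Field k] {X : Scheme.{u}} (f : X ⟶ Spec (CommRingCat.of k)) [Smooth f]
    [IrreducibleSpace X] : IsIntegral X := by
  have h : ∀ x : X, _root_.IsReduced (X.presheaf.stalk x) := fun x => S1628.isReduced_stalk_of_smooth f x
  have : IsReduced X := isReduced_of_isReduced_stalk X
  exact isIntegral_of_irreducibleSpace_of_isReduced X

theorem comap_prod_pow {X Y : Scheme.{u}} {ι : Type*} (s : Finset ι) (I : ι → Y.IdealSheafData) (a : ι → ℕ)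
    (f : X ⟶ Y) : (∏ i ∈ s, I i ^ a i).comap f = ∏ i ∈ s, (I i).comap f ^ a i := by
  classical
  induction s using Finset.induction_on with
  | empty => exact Scheme.IdealSheafData.comap_top f
  | insert i t hi ih =>
    rw [Finset.prod_insert hi, Finset.prod_insert hi, Divis.IdealComap.comap_mul, Divis.IdealComap.comap_pow, ih]

theorem row17124 (k : Type u) [Field k] (van : Van.{u} k) (push : Push.{u} k)
    (X : Scheme.{u}) [X.Over (Spec (CommRingCat.of k))] [IrreducibleSpace X] [Smooth (X ↘ Spec (CommRingCat.of k))]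
    [IsSeparated (X ↘ Spec (CommRingCat.of k))] [LocallyOfFiniteType (X ↘ Spec (CommRingCat.of k))] [CompactSpace X]
    (Linv : X.Modules) (hLinv : PicF.IsInvertible Linv)
    (N : ℕ) (hN : 1 ≤ N) {r : ℕ} (D : Fin r → X.IdealSheafData) (hD : LogNCD.IsNCD D (X ↘ Spec (CommRingCat.of k)))
    (α : Fin r → ℕ)
    (X' : Scheme.{u}) [X'.Over (Spec (CommRingCat.of k))] [IsIntegral X'] [Smooth (X' ↘ Spec (CommRingCat.of k))]
    (τ : X' ⟶ X) (hτ : τ ≫ (X ↘ Spec (CommRingCat.of k)) = X' ↘ Spec (CommRingCat.of k)) [IsProper τ]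
    (hbir : RadPt.IsBirational τ)
    {s : ℕ} (Δ : Fin s → X'.IdealSheafData) (hΔ : LogNCD.IsNCD Δ (X' ↘ Spec (CommRingCat.of k)))
    (m : Fin r → Fin s → ℕ) (hm : ∀ j, (D j).comap τ = ∏ c, Δ c ^ m j c)
    (i : ℕ) (P : X'.Modules)
    (hP : ClSub.IsInverseOf P (ClSub.idealMod (∏ c, Δ c ^ ((i * ∑ j, α j * m j c) / N))))
    [HasInjectiveResolutions X'.Modules] (b : ℕ) (hb : 0 < b) :
    IsZero ((Coh.Rpush τ b).obj (CohB1.tensorMod ((Scheme.Modules.pullback τ).obj (CohB1.tensorPow Linv i)) P)) := by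
  let f : X ⟶ Spec (CommRingCat.of k) := X ↘ Spec (CommRingCat.of k)
  have hXi : IsIntegral X := isIntegral_of_smooth f
  have hqc : QuasiCompact f := inferInstance
  have hlft' : LocallyOfFiniteType (X' ↘ Spec (CommRingCat.of k)) := by
    rw [← hτ]
    infer_instance
  -- dimensions
  have hgen : τ (genericPoint X') = genericPoint X := by
    have h := hbir.1.1
    rw [genericPoints_eq_singleton, genericPoints_eq_singleton] at h
    exact h rfl
  obtain ⟨n, hn⟩ : ∃ n : ℕ, topologicalKrullDim X = n := ⟨_, VarietyB.DimSch.topologicalKrullDim_eq_trd k⟩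
  have hres : τ.residueDegree (genericPoint X') ≠ 0 := by
    have h1 : genericPoint X ∈ genericPoints X := by rw [genericPoints_eq_singleton]; rfl
    have h2 := (hbir.2 _ h1).2 _ hgen
    rw [Scheme.Hom.residueDegree]
    algebraize [(τ.residueFieldMap (genericPoint X')).hom]
    have h3 := (LinearEquiv.ofBijective (Algebra.linearMap (X.residueField (τ (genericPoint X')))
      (X'.residueField (genericPoint X'))) h2).finrank_eq.symm.trans (Module.finrank_self _)
    rw [h3]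
    exact one_ne_zero
  have hn' : topologicalKrullDim X' = n := by
    have h1 : VarietyB.DimSch.trd k X' (genericPoint X') = VarietyB.DimSch.trd k X (τ (genericPoint X')) :=
      congrArg Cardinal.toNat (K424.TrdMap.trd_eq_of_residueDegree_ne_zero k τ hτ (genericPoint X') hres)
    rw [← hn, VarietyB.DimSch.topologicalKrullDim_eq_trd k (X := X'),
      VarietyB.DimSch.topologicalKrullDim_eq_trd k (X := X), h1, hgen]
  have hsm : SmoothOfRelativeDimension n f :=
    Picfga.CurveRelDim.smoothOfRelativeDimension_of_topologicalKrullDim_eq k X f n hn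
  have hsm' : SmoothOfRelativeDimension n (X' ↘ Spec (CommRingCat.of k)) :=
    Picfga.CurveRelDim.smoothOfRelativeDimension_of_topologicalKrullDim_eq k X' _ n hn'
  have hsm'' : SmoothOfRelativeDimension n (τ ≫ f) := by
    rw [hτ]
    exact hsm'
  have hsurj : Surjective τ := by
    refine ⟨fun x => ?_⟩
    have h1 : IsClosed (Set.range τ) := τ.isClosedMap.isClosed_range
    have h2 : genericPoint X ∈ Set.range τ := ⟨_, hgen⟩
    have h3 : closure {genericPoint X} ⊆ Set.range τ := h1.closure_subset_iff.mpr (Set.singleton_subset_iff.mpr h2)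
    rw [genericPoint_closure] at h3
    exact h3 trivial
  -- canonical modules
  obtain ⟨W, hW⟩ := Dual.H366.ExtQCoh.exists_isExtPow n (Dual.H328.ClopenGlue.isQCoh_omega f)
  obtain ⟨W₁, hW₁⟩ := Dual.H366.ExtQCoh.exists_isExtPow n (Dual.H328.ClopenGlue.isQCoh_omega (τ ≫ f))
  have hWi : PicF.IsInvertible W := isInvertible_extPow (Vancyc.H878.OmegaRank.isFinLocFreeOfRank_omega n f) hW
  have hW₁i : PicF.IsInvertible W₁ :=
    isInvertible_extPow (Vancyc.H878.OmegaRank.isFinLocFreeOfRank_omega n (τ ≫ f)) hW₁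
  have hW₁' : ExtPow.IsExtPow n (Omega.sheaf (X' ↘ Spec (CommRingCat.of k))) W₁ := by
    rw [← hτ]
    exact hW₁
  have hΔ' : LogNCD.IsNCD Δ (τ ≫ f) := by
    rw [hτ]
    exact hΔ
  -- the ideals
  let β : Fin r → ℕ := fun j => i * α j
  have hβ : ∀ c, (∑ j, β j * m j c) = i * ∑ j, α j * m j c := fun c => by
    rw [Finset.mul_sum]
    exact Finset.sum_congr rfl fun j _ => mul_assoc _ _ _
  let I' : X'.IdealSheafData := ∏ c, Δ c ^ ((∑ j, β j * m j c) / N)
  have hI' : I' = ∏ c, Δ c ^ ((i * ∑ j, α j * m j c) / N) :=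
    Finset.prod_congr rfl fun c _ => by rw [hβ c]
  have hP' : ClSub.IsInverseOf P (ClSub.idealMod I') := by
    rw [hI']
    exact hP
  obtain ⟨hPi, hQi⟩ := Dix.IdealModCartier.isInvertible_of_isInverseOf hP'
  have hR : ∀ q : ℕ, 0 < q → IsZero ((Coh.Rpush τ q).obj (CohB1.tensorMod W₁ (ClSub.idealMod I'))) := by
    intro q hq
    refine van X' n hn' X τ hτ hbir (∏ j, D j ^ β j)
      (Dix.IdealModCartier.isInvertible_idealMod (isEff_prod_pow hD β)) Δ hΔ (fun c => ∑ j, β j * m j c) ?_ N hN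
      W₁ hW₁' q hq
    rw [comap_prod_pow]
    have h1 : ∀ j, (D j).comap τ ^ β j = ∏ c, Δ c ^ (β j * m j c) := fun j => by
      rw [hm j, ← Finset.prod_pow]
      exact Finset.prod_congr rfl fun c _ => by rw [← pow_mul, mul_comm]
    rw [Finset.prod_congr rfl fun j _ => h1 j, Finset.prod_comm]
    exact Finset.prod_congr rfl fun c _ => (Finset.prod_pow_eq_pow_sum _ _ _)
  obtain ⟨e, he⟩ := push n f τ hbir hW hW₁ D hD Δ hΔ' m hm N hN β
  have hG : PicF.IsInvertible (CohB1.tensorMod W (ClSub.idealMod (∏ j, D j ^ (β j / N)))) :=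
    LocGen.isInvertible_tensorMod hWi (Dix.IdealModCartier.isInvertible_idealMod (isEff_prod_pow hD _))
  obtain ⟨ε⟩ := hP'
  have h0 : IsZero ((Coh.Rpush τ b).obj P) :=
    K104.RelVan.main n f τ hW hWi hW₁ (K104.RelVan.isCoh_of_isInvertible hW₁i).1 hPi
      (K104.RelVan.isCoh_of_isInvertible hQi).1 ε hG (asIso e) hR b hb
  obtain ⟨e₂⟩ := S0927.result τ P (CohB1.tensorPow Linv i)
    (isFinLocFree_of_isInvertible (LocGen.isInvertible_tensorPow hLinv i)) b
  exact ((DCoh.tensorBi.obj (CohB1.tensorPow Linv i)).map_isZero h0).of_iso e₂.symm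

end K104.Asm17124
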