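import Mathlib.Algebra.Homology.DerivedCategory.SingleTriangle
import Groth.Agent.PerfB.TildeExact
import Groth.Agent.Sga2.RegPd
import Groth.Agent.S2310
import Groth.Agent.Ega1.FTAffine
import Groth.Prelude.Def_DCoh2

/-!
# Complexes orthogonal to the structure sheaf of a regular affine scheme

`Orth K Y`: there are no maps from a shift of `K` to `Y`.  On `Spec A`, `A` regular Noetherian, a complex
orthogonal to `O` is orthogonal to all coherent modules.
-/

set_option autoImplicit false

universe u

open CategoryTheory CategoryTheory.Limits AlgebraicGeometry Pretriangulated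

namespace K104.AffReg

section Abs

variable {C : Type*} [Category C] [Preadditive C] [HasZeroObject C] [HasShift C ℤ]
  [∀ n : ℤ, (shiftFunctor C n).Additive] [Pretriangulated C]

/-- There are no maps from shifts of `K` to `Y`. -/
def Orth (K Y : C) : Prop := ∀ (j : ℤ) (f : K⟦j⟧ ⟶ Y), f = 0

theorem Orth.shift {K Y : C} (h : Orth K Y) (n : ℤ) : Orth K (Y⟦n⟧) := by
  intro j f
  have e := (shiftFunctorAdd' C (j - n) n j (by lia)).app K
  obtain ⟨g, hg⟩ := (shiftFunctor C n).map_surjective (e.inv ≫ f)
  have hg0 : g = 0 := h (j - n) g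
  rw [hg0, Functor.map_zero] at hg
  rw [← cancel_epi e.inv, ← hg, comp_zero]

theorem Orth.of_iso {K Y Y' : C} (e : Y ≅ Y') (h : Orth K Y) : Orth K Y' := fun j f => by
  rw [← cancel_mono e.inv, h j (f ≫ e.inv), zero_comp]

theorem Orth.of_iso_left {K K' Y : C} (e : K ≅ K') (h : Orth K Y) : Orth K' Y := fun j f => by
  rw [← cancel_epi ((shiftFunctor C j).map e.hom), h j ((shiftFunctor C j).map e.hom ≫ f), comp_zero]

theorem Orth.of_tri₃ {K : C} {T : Triangle C} (hT : T ∈ distTriang C) (h1 : Orth K T.obj₁)
    (h2 : Orth K T.obj₂) : Orth K T.obj₃ := fun j f => by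
  obtain ⟨g, hg⟩ := T.coyoneda_exact₃ hT f (h1.shift 1 j _)
  rw [hg, h2 j g, zero_comp]

theorem Orth.of_sum {K Y Z : C} {ι : Type*} (s : Finset ι) (a : ι → (Z ⟶ Y)) (b : ι → (Y ⟶ Z))
    (hs : ∑ i ∈ s, b i ≫ a i = 𝟙 Y) (h : Orth K Z) : Orth K Y := fun j f => by
  rw [← Category.comp_id f, ← hs, Preadditive.comp_sum]
  refine Finset.sum_eq_zero fun i _ => ?_
  rw [← Category.assoc, h j (f ≫ b i), zero_comp]

end Abs

attribute [local instance] HasDerivedCategory.standard

section Aff

variable (R : CommRingCat.{u})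

/-- The sheaf of a module in degree zero. -/
noncomputable abbrev tl (N : ModuleCat.{u} R) : DCoh.D (Spec R) :=
  DCoh.inD _ ((tilde.functor R).obj N)

variable {R}

theorem orth_projective {K : DCoh.D (Spec R)} (h : Orth K (tl R (ModuleCat.of R R)))
    (N : ModuleCat.{u} R) [Module.Finite R N] [Module.Projective R N] : Orth K (tl R N) := by
  obtain ⟨m, f, g, -, -, hfg⟩ := Module.Finite.exists_comp_eq_id_of_projective R N
  let F := tilde.functor R ⋙ DerivedCategory.singleFunctor (Spec R).Modules 0
  let x : Fin m → (ModuleCat.of R R ⟶ N) := fun i =>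
    ModuleCat.ofHom (f ∘ₗ LinearMap.single R (fun _ : Fin m => R) i)
  let y : Fin m → (N ⟶ ModuleCat.of R R) := fun i =>
    ModuleCat.ofHom ((LinearMap.proj i : (Fin m → R) →ₗ[R] R) ∘ₗ g)
  have hs : ∑ i, y i ≫ x i = 𝟙 N := by
    ext n
    have h1 := LinearMap.congr_fun hfg n
    simp only [LinearMap.comp_apply, LinearMap.id_apply] at h1
    have h2 : ∀ i : Fin m, (y i ≫ x i).hom n = f (Pi.single i (g n i)) := fun i => rfl
    rw [ModuleCat.hom_sum, LinearMap.sum_apply, Finset.sum_congr rfl (fun i _ => h2 i), ← map_sum]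
    have h3 : ∑ i, (Pi.single i (g n i) : Fin m → R) = g n := Finset.univ_sum_single (g n)
    rw [h3, h1]
    rfl
  refine Orth.of_sum Finset.univ (fun i => F.map (x i)) (fun i => F.map (y i)) ?_ h
  have h4 : ∑ i, F.map (y i) ≫ F.map (x i) = F.map (∑ i, y i ≫ x i) := by
    rw [Functor.map_sum]
    exact Finset.sum_congr rfl fun i _ => (F.map_comp _ _).symm
  rw [h4, hs]
  exact F.map_id N

theorem orth_of_pd [IsNoetherianRing R] {K : DCoh.D (Spec R)}
    (h : Orth K (tl R (ModuleCat.of R R))) (r : ℕ) :
    ∀ (N : ModuleCat.{u} R) [Module.Finite R N] [HasProjectiveDimensionLT N (r + 1)], Orth K (tl R N) := by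
  induction r with
  | zero =>
    intro N hN hpd
    have hp : Projective N := projective_iff_hasProjectiveDimensionLT_one.2 hpd
    have hp' : Module.Projective R N := (IsProjective.iff_projective N).2 hp
    exact orth_projective h N
  | succ r ih =>
    intro N hN hpd
    obtain ⟨m, p, hp⟩ := Module.Finite.exists_fin' R N
    let S : ShortComplex (ModuleCat.{u} R) :=
      ShortComplex.mk (ModuleCat.ofHom (LinearMap.ker p).subtype) (ModuleCat.ofHom p) (by
        ext x
        exact x.2)
    have hS : S.ShortExact := by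
      refine ShortComplex.ShortExact.mk' ?_ ?_ ?_
      · rw [ShortComplex.moduleCat_exact_iff]
        intro x hx
        exact ⟨⟨x, hx⟩, rfl⟩
      · exact (ModuleCat.mono_iff_injective _).2 (LinearMap.ker p).injective_subtype
      · exact (ModuleCat.epi_iff_surjective _).2 hp
    have hfree : Module.Projective R (Fin m → R) := inferInstance
    have hP : Projective S.X₂ := (IsProjective.iff_projective (ModuleCat.of R (Fin m → R))).1 hfree
    have h1 : HasProjectiveDimensionLT S.X₁ (r + 1) := (hS.hasProjectiveDimensionLT_X₃_iff r hP).1 hpd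
    have hf1 : Module.Finite R S.X₁ := inferInstanceAs (Module.Finite R (LinearMap.ker p))
    have hf2 : Module.Finite R S.X₂ := inferInstanceAs (Module.Finite R (Fin m → R))
    have hp2 : Module.Projective R S.X₂ := hfree
    have hS' := hS.map_of_exact (tilde.functor R)
    exact Orth.of_tri₃ hS'.singleTriangle_distinguished (ih S.X₁) (orth_projective h S.X₂)

/-- **On a regular affine scheme a complex orthogonal to `O` is orthogonal to all coherent modules.** -/
theorem orth_of_isCoh [IsRegularRing R] {K : DCoh.D (Spec R)}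
    (h : Orth K (DCoh.inD _ (Coh.structureModule (Spec R))))
    (G : (Spec R).Modules) (hG : Coh.IsCoh G) : Orth K (DCoh.inD _ G) := by
  obtain ⟨N, ⟨e⟩⟩ := Groth.Agent.S2310.exists_tilde_iso G hG.1
  have hN : Module.Finite R N := Groth.Agent.Ega1.FTAffine.finite_of_isFiniteType N e hG.2
  obtain ⟨d, hd⟩ := Groth.Agent.Sga2.RegPd.exists_pd R N
  have h1 : Orth K (tl R (ModuleCat.of R R)) := h.of_iso
    ((DerivedCategory.singleFunctor _ 0).mapIso (tildeSelf (R := R)).symm)
  exact (orth_of_pd h1 d N).of_iso ((DerivedCategory.singleFunctor _ 0).mapIso e.symm)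

end Aff

end K104.AffReg
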