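import Groth.Agent.Vanish.K104.AffReg
import Mathlib.CategoryTheory.Linear.LinearFunctor

/-!
# Orthogonality of a cone

A morphism `φ : M ⟶ K` in a triangulated `R`-linear category such that `R → Hom(M, K)`, `a ↦ a φ` is bijective,
`End(K)` is generated by scalars and `Hom(M, K[i]) = Hom(K, K[i]) = 0` for `i ≠ 0`: the cone of `φ` is
orthogonal to `K`.
-/

set_option autoImplicit false

open CategoryTheory CategoryTheory.Limits Pretriangulated

namespace K104.ConeOrth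

open K104.AffReg

variable {C : Type*} [Category C] [Preadditive C] [HasShift C ℤ] [∀ n : ℤ, (shiftFunctor C n).Additive]

theorem zero_of_left {M K : C} (i j : ℤ) (hij : i + j = 0) (h : ∀ g : M⟦j⟧ ⟶ K, g = 0) (f : M ⟶ K⟦i⟧) :
    f = 0 := by
  apply (shiftFunctor C j).map_injective
  rw [Functor.map_zero, ← cancel_mono ((shiftFunctorCompIsoId C i j hij).hom.app K), zero_comp]
  exact h _

theorem zero_of_right {M K : C} (i j : ℤ) (hij : j + i = 0) (h : ∀ g : M ⟶ K⟦i⟧, g = 0) (f : M⟦j⟧ ⟶ K) :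
    f = 0 := by
  apply (shiftFunctor C i).map_injective
  rw [Functor.map_zero, ← cancel_epi ((shiftFunctorCompIsoId C j i hij).inv.app M), comp_zero]
  exact h _

variable [HasZeroObject C] [Pretriangulated C] {R : Type*} [Ring R] [Linear R C]


omit [HasZeroObject C] [Pretriangulated C] [∀ n : ℤ, (shiftFunctor C n).Additive] in
theorem exists_zero {M K : C} (g : M ⟶ K⟦(0 : ℤ)⟧) :
    ∃ g' : M ⟶ K, g = g' ≫ ((shiftFunctorZero C ℤ).app K).inv :=
  ⟨g ≫ ((shiftFunctorZero C ℤ).app K).hom, by simp⟩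

theorem orth_cone (T : Triangle C) (hT : T ∈ distTriang C)
    (hc : ∀ i : ℤ, i ≠ 0 → ∀ g : T.obj₂ ⟶ T.obj₂⟦i⟧, g = 0)
    (hd : ∀ g : T.obj₂ ⟶ T.obj₂, ∃ a : R, g = a • 𝟙 _)
    (ha : ∀ i : ℤ, i ≠ 0 → ∀ g : T.obj₁ ⟶ T.obj₂⟦i⟧, g = 0)
    (hb : Function.Bijective (fun a : R => a • T.mor₁)) : Orth T.obj₃ T.obj₂ := by
  have key : ∀ (i : ℤ) (f : T.obj₃ ⟶ T.obj₂⟦i⟧), f = 0 := by
    intro i f
    have h1 : T.mor₂ ≫ f = 0 := by
      rcases eq_or_ne i 0 with rfl | hi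
      · obtain ⟨g, hg⟩ := exists_zero (T.mor₂ ≫ f)
        obtain ⟨a, rfl⟩ := hd g
        have h2 : T.mor₁ ≫ T.mor₂ ≫ f = 0 := by
          rw [← Category.assoc, comp_distTriang_mor_zero₁₂ T hT, zero_comp]
        rw [hg, ← Category.assoc, Linear.comp_smul, Category.comp_id] at h2
        have h3 : a • T.mor₁ = 0 := by
          rw [← cancel_mono ((shiftFunctorZero C ℤ).app T.obj₂).inv, h2, zero_comp]
        have h4 : a = 0 := hb.1 (show a • T.mor₁ = (0 : R) • T.mor₁ by rw [h3, zero_smul])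
        rw [hg, h4, zero_smul, zero_comp]
      · exact hc i hi _
    obtain ⟨g, hg⟩ := T.yoneda_exact₃ hT f h1
    obtain ⟨g', hg'⟩ := (shiftFunctor C (1 : ℤ)).map_surjective
      (g ≫ (shiftFunctorAdd' C (i - 1) 1 i (by lia)).hom.app T.obj₂)
    suffices h : T.mor₃ ≫ g'⟦(1 : ℤ)⟧' = 0 by
      rw [hg, ← cancel_mono ((shiftFunctorAdd' C (i - 1) 1 i (by lia)).hom.app T.obj₂), Category.assoc,
        ← hg', h, zero_comp]
    by_cases hi : i - 1 = 0
    · have h0 : ∀ (m : ℤ) (hm : m = 0) (g' : T.obj₁ ⟶ T.obj₂⟦m⟧), T.mor₃ ≫ g'⟦(1 : ℤ)⟧' = 0 := by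
        rintro m rfl g'
        obtain ⟨q, rfl⟩ := exists_zero g'
        obtain ⟨a, ha'⟩ := hb.2 q
        have h5 : q = T.mor₁ ≫ (a • 𝟙 _) := by
          rw [← ha', Linear.comp_smul, Category.comp_id]
        rw [h5, Category.assoc, Functor.map_comp, ← Category.assoc,
          comp_distTriang_mor_zero₃₁ T hT, zero_comp]
      exact h0 _ hi g'
    · rw [ha _ hi g', Functor.map_zero, comp_zero]
  intro j f
  exact zero_of_right (-j) j (by lia) (key (-j)) f

end K104.ConeOrth
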