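import Groth.Agent.Surf.K461.DualInv
import Groth.Agent.Dual.H345.LinD

/-!
# Maps out of an invertible module

`F ⊗ F' = O`: vanishing of `Ext^i(F, W)` from `H^i(W ⊗ F')`, and the generator of `Hom(F, W)` attached to a
generator of `Γ(W ⊗ F')`.
-/

set_option autoImplicit false

universe u

open CategoryTheory CategoryTheory.Limits AlgebraicGeometry

attribute [local instance] HasDerivedCategory.standard

namespace K104.InvHom

open Groth.Agent Groth.Agent.CurvesC Groth.Agent.LoccohB.SectLin303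

variable {Y : Scheme.{u}}

section Ext

attribute [local instance] LinMod.linearModules

theorem hom_zero (k : Type u) [Field k] [Y.Over (Spec (CommRingCat.of k))] {F F' W₁ : Y.Modules}
    (e : CohB1.tensorMod F F' ≅ Coh.structureModule Y) (i : ℕ)
    (hs : Subsingleton (Coh.HH Y (CohB1.tensorMod W₁ F') i)) (g : DCoh.inD Y F ⟶ (DCoh.inD Y W₁)⟦(i : ℤ)⟧) :
    g = 0 := by
  let T := DCoh.tensorRightMod F'
  have hT : T.IsEquivalence := Sga2.LefPow644.isEquivalence_of_inv (Ega2.Tens.swap F' F ≪≫ e)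
  have hlin : T.Linear k := K461.DualInv.linear_tensorRightMod k Y F'
  obtain ⟨E1⟩ := K461.DualAbs.equiv_of_equivalence k T (F := F) (W := W₁) e i
  have h2 : Subsingleton (HV Y (T.obj W₁) i) := (HV.equiv k (T.obj W₁) i).toEquiv.subsingleton_congr.2 hs
  exact E1.injective (Subsingleton.elim _ _)

end Ext

section Hom

/-- A generator of `Γ(W₁ ⊗ F')` gives a generator of `Hom(F, W₁)`. -/
theorem exists_hom {F F' W₁ : Y.Modules} (e : CohB1.tensorMod F F' ≅ Coh.structureModule Y) {A : Type u}
    (c : A → Γ(Y, ⊤)) (s : Coh.structureModule Y ⟶ CohB1.tensorMod W₁ F')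
    (hs : Function.Bijective (fun a : A => c a • s)) :
    ∃ e₀ : F ⟶ W₁, Function.Bijective (fun a : A => c a • e₀) := by
  let T := DCoh.tensorRightMod F'
  have hT : T.IsEquivalence := Sga2.LefPow644.isEquivalence_of_inv (Ega2.Tens.swap F' F ≪≫ e)
  let e' : T.obj F ≅ Coh.structureModule Y := e
  let s' : Coh.structureModule Y ⟶ T.obj W₁ := s
  obtain ⟨e₀, he₀⟩ := T.map_surjective (e'.hom ≫ s')
  refine ⟨e₀, ?_⟩
  have b1 : Function.Bijective (fun g : F ⟶ W₁ => T.map g) := ⟨T.map_injective, T.map_surjective⟩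
  have b2 : Function.Bijective (fun g : Coh.structureModule Y ⟶ T.obj W₁ => e'.hom ≫ g) :=
    (e'.homFromEquiv (Z := T.obj W₁)).symm.bijective
  rw [← b1.of_comp_iff']
  convert b2.comp hs using 1
  funext a
  simp only [Function.comp_apply]
  have h1 : T.map (c a • e₀) = c a • T.map e₀ := Dual.H345.LinD.tensorBi_map_smul e₀ F' (c a)
  rw [h1, he₀]
  exact (Linear.comp_smul _ _ _ _ _ _).symm

end Hom

end K104.InvHom
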