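import Groth.Agent.Vanish.K104.ConeOrth
import Groth.Agent.Ega1.ADualUniv
import Groth.Agent.LoccohB.GammaAff
import Groth.Agent.LoccohB.SectLin303
import Groth.Agent.LoccohB.DCalc
import Groth.Agent.PerfC.RpushBound
import Groth.Agent.PerfC.RpushSingle
import Groth.Agent.PerfC.RpushCoh
import Groth.Agent.CurvesC.HomHV
import Groth.Agent.CurvesC.DerHom
import Groth.Agent.CohqA.AffineVanish
import Groth.Agent.S0036

/-!
# Vanishing of higher direct images from duality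

`π : Y ⟶ X` proper, `X` affine and regular, `W`, `W₁` modules on `X`, `Y` with `Hom(Rπ_* N, W) = Hom(N, W₁)` for
`N` in `D_QCoh(Y)` (`Univ`), `W = O_X`.  Let `F` be coherent on `Y` with `Ext^i(F, W₁) = 0` for `i > 0` and
`Hom(F, W₁)` free of rank one over `Γ(X, O)`.  Then `R^b π_* F = 0` for `b > 0`.
-/

set_option autoImplicit false

universe u

open CategoryTheory CategoryTheory.Limits AlgebraicGeometry Pretriangulated

attribute [local instance] HasDerivedCategory.standard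

namespace K104.RelCore

open Groth.Agent Groth.Agent.LoccohB.SectLin303 Groth.Agent.Ega1.ADualUniv K104.AffReg K104.ConeOrth

section Shift

variable {X Y : Scheme.{u}} (π : Y ⟶ X) [DCoh.HasRpush π]

/-- A universal pair may be unshifted. -/
theorem univ_of_shift {K : DCoh.D X} {L : DCoh.D Y} (n : ℤ) (h : Univ π (K⟦n⟧) (L⟦n⟧))
    (hL : DCoh.IsQCohD L) : Univ π K L := by
  obtain ⟨τ, h⟩ := h
  let := Dcoh.DerSch.rpushCommShift π
  let Φ := DCoh.Rpush π
  obtain ⟨τ₀, hτ₀⟩ := (shiftFunctor (DCoh.D X) n).map_surjective ((Φ.commShiftIso n).inv.app L ≫ τ)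
  refine ⟨τ₀, hL, fun N hN => ?_⟩
  have b1 : Function.Bijective (fun g : N ⟶ L => g⟦n⟧') :=
    ⟨(shiftFunctor (DCoh.D Y) n).map_injective, (shiftFunctor (DCoh.D Y) n).map_surjective⟩
  have b2 := h.bij (N⟦n⟧) (PerfA.QCohD.isQCohD_shift hN n)
  have b3 : Function.Bijective (fun g : Φ.obj (N⟦n⟧) ⟶ K⟦n⟧ => (Φ.commShiftIso n).inv.app N ≫ g) :=
    (((Φ.commShiftIso n).app N).homFromEquiv (Z := K⟦n⟧)).bijective
  have b4 : Function.Bijective (fun g : Φ.obj N ⟶ K => g⟦n⟧') :=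
    ⟨(shiftFunctor (DCoh.D X) n).map_injective, (shiftFunctor (DCoh.D X) n).map_surjective⟩
  rw [← b4.of_comp_iff']
  convert b3.comp (b2.comp b1) using 1
  funext g
  have e : (Φ.map g)⟦n⟧' ≫ (Φ.commShiftIso n).inv.app L = (Φ.commShiftIso n).inv.app N ≫ Φ.map (g⟦n⟧') :=
    (Φ.commShiftIso n).inv.naturality g
  simp only [Function.comp_apply]
  rw [Functor.map_comp, hτ₀, reassoc_of% e]

end Shift

section Affine

variable {X : Scheme.{u}}

/-- No extensions from `O` to a quasi-coherent module on an affine scheme. -/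
theorem hom_shift_eq_zero [IsAffine X] {M N : X.Modules} (e : M ≅ Coh.structureModule X) (hN : Coh.IsQCoh N)
    (i : ℤ) (hi : i ≠ 0) (g : DCoh.inD X M ⟶ (DCoh.inD X N)⟦i⟧) : g = 0 := by
  have i1 : (DCoh.inD X M).IsLE 0 :=
    inferInstanceAs (((DerivedCategory.singleFunctor X.Modules 0).obj _).IsLE 0)
  have i2 : (DCoh.inD X N).IsGE 0 :=
    inferInstanceAs (((DerivedCategory.singleFunctor X.Modules 0).obj _).IsGE 0)
  rcases lt_or_gt_of_ne hi with h | h
  · have i3 : ((DCoh.inD X N)⟦i⟧).IsGE (-i) := DerivedCategory.TStructure.t.isGE_shift _ 0 i (-i) (by lia)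
    exact DerivedCategory.TStructure.t.zero g 0 (-i) (by lia)
  · obtain ⟨n, rfl⟩ : ∃ n : ℕ, i = n := ⟨i.toNat, by omega⟩
    have hN' : Coh.IsQCoh N := hN
    have hs : Subsingleton (CurvesC.HV X N n) := CohqA.AffineVanish.HH_subsingleton X N n (by omega)
    have h1 : ∀ s : DCoh.inD X (Coh.structureModule X) ⟶ (DCoh.inD X N)⟦(n : ℤ)⟧, s = 0 := fun s =>
      (CurvesC.HomHV.homHV N n).injective (Subsingleton.elim _ _)
    rw [← cancel_epi ((DerivedCategory.singleFunctor X.Modules 0).map e.inv), comp_zero]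
    exact h1 _

theorem end_eq_smul {M : X.Modules} (e : M ≅ Coh.structureModule X) (g : DCoh.inD X M ⟶ DCoh.inD X M) :
    ∃ a : Γ(X, ⊤), g = a • 𝟙 _ := by
  let i : DCoh.inD X M ≅ DCoh.inD X (Coh.structureModule X) := (DerivedCategory.singleFunctor X.Modules 0).mapIso e
  obtain ⟨a, ha⟩ := (LoccohB.GammaAff.end_bijective X).2 (i.inv ≫ g ≫ i.hom)
  refine ⟨a, ?_⟩
  have h1 : (DerivedCategory.singleFunctor X.Modules 0).map (LoccohB.HHmap.smulHom (Coh.structureModule X) a) =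
      a • 𝟙 _ := by
    have h2 : LoccohB.HHmap.smulHom (Coh.structureModule X) a = a • 𝟙 (Coh.structureModule X) := by
      rw [smul_eq, Category.comp_id]
    rw [h2, Functor.map_smul, CategoryTheory.Functor.map_id]
  rw [← cancel_epi i.inv, ← cancel_mono i.hom, Category.assoc, ← ha]
  change (DerivedCategory.singleFunctor X.Modules 0).map (LoccohB.HHmap.smulHom (Coh.structureModule X) a) = _
  rw [h1, Linear.comp_smul, Category.comp_id, Linear.smul_comp, i.inv_hom_id]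

end Affine

theorem isQCoh_of_iso {X : Scheme.{u}} {M N : X.Modules} (e : M ≅ N) (h : Coh.IsQCoh M) : Coh.IsQCoh N :=
  (SheafOfModules.isQuasicoherent X.ringCatSheaf).prop_of_iso e h

section Core

variable {R : CommRingCat.{u}} {Y : Scheme.{u}} (π : Y ⟶ Spec R) [DCoh.HasRpush π] {W : (Spec R).Modules}
  {W₁ F : Y.Modules}

/-- No negative extensions, and no positive ones by assumption. -/
theorem hom_left_eq_zero (hE : ∀ i : ℕ, 0 < i → ∀ g : DCoh.inD Y F ⟶ (DCoh.inD Y W₁)⟦(i : ℤ)⟧, g = 0)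
    (i : ℤ) (hi : i ≠ 0) (g : DCoh.inD Y F ⟶ (DCoh.inD Y W₁)⟦i⟧) : g = 0 := by
  have i1 : (DCoh.inD Y F).IsLE 0 :=
    inferInstanceAs (((DerivedCategory.singleFunctor Y.Modules 0).obj _).IsLE 0)
  have i2 : (DCoh.inD Y W₁).IsGE 0 :=
    inferInstanceAs (((DerivedCategory.singleFunctor Y.Modules 0).obj _).IsGE 0)
  rcases lt_or_gt_of_ne hi with h | h
  · have i3 : ((DCoh.inD Y W₁)⟦i⟧).IsGE (-i) := DerivedCategory.TStructure.t.isGE_shift _ 0 i (-i) (by lia)
    exact DerivedCategory.TStructure.t.zero g 0 (-i) (by lia)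
  · obtain ⟨n, rfl⟩ : ∃ n : ℕ, i = n := ⟨i.toNat, by omega⟩
    exact hE n (by omega) g

/-- The cone of `Rπ_* F ⟶ W` is orthogonal to `W`. -/
theorem orth (eW : W ≅ Coh.structureModule (Spec R)) (hW : Coh.IsQCoh W)
    {τ : (DCoh.Rpush π).obj (DCoh.inD Y W₁) ⟶ DCoh.inD (Spec R) W}
    (hU : IsUniv π (DCoh.inD (Spec R) W) (DCoh.inD Y W₁) τ) (hF : Coh.IsQCoh F)
    (hE : ∀ i : ℕ, 0 < i → ∀ g : DCoh.inD Y F ⟶ (DCoh.inD Y W₁)⟦(i : ℤ)⟧, g = 0) (e₀ : F ⟶ W₁)
    (hb : Function.Bijective (fun a : Γ(Spec R, ⊤) => (π.appTop a : Γ(Y, ⊤)) • e₀))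
    {C : DCoh.D (Spec R)} (β : DCoh.inD (Spec R) W ⟶ C)
    (δ : C ⟶ ((DCoh.Rpush π).obj (DCoh.inD Y F))⟦(1 : ℤ)⟧)
    (hT : Triangle.mk ((DCoh.Rpush π).map ((DerivedCategory.singleFunctor Y.Modules 0).map e₀) ≫ τ) β δ ∈
      distTriang (DCoh.D (Spec R))) : Orth C (DCoh.inD (Spec R) W) := by
  let := Dcoh.DerSch.rpushCommShift π
  have htri : (DCoh.Rpush π).IsTriangulated := Dcoh.DerSch.rpush_isTriangulated π
  have ha : ∀ i : ℤ, i ≠ 0 → ∀ g : (DCoh.Rpush π).obj (DCoh.inD Y F) ⟶ (DCoh.inD (Spec R) W)⟦i⟧, g = 0 := by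
    intro i hi
    refine zero_of_left i (-i) (by lia) (fun g => ?_)
    have hN : DCoh.IsQCohD ((DCoh.inD Y F)⟦-i⟧) :=
      PerfA.QCohD.isQCohD_shift (PerfA.QCohD.isQCohD_inD F hF) (-i)
    obtain ⟨h, hh⟩ := hU.exists_lift hN (((DCoh.Rpush π).commShiftIso (-i)).hom.app (DCoh.inD Y F) ≫ g)
    have h0 : h = 0 := zero_of_right i (-i) (by lia) (fun g => hom_left_eq_zero hE i hi g) h
    rw [h0, Functor.map_zero, zero_comp] at hh
    rw [← cancel_epi (((DCoh.Rpush π).commShiftIso (-i)).hom.app (DCoh.inD Y F)), comp_zero]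
    exact hh.symm
  have hb' : Function.Bijective (fun a : Γ(Spec R, ⊤) =>
      a • ((DCoh.Rpush π).map ((DerivedCategory.singleFunctor Y.Modules 0).map e₀) ≫ τ)) := by
    have b1 : Function.Bijective (fun g : F ⟶ W₁ => (DerivedCategory.singleFunctor Y.Modules 0).map g) :=
      ⟨(DerivedCategory.singleFunctor Y.Modules 0).map_injective,
        (DerivedCategory.singleFunctor Y.Modules 0).map_surjective⟩
    have b2 := hU.bij _ (PerfA.QCohD.isQCohD_inD F hF)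
    have b3 := b2.comp (b1.comp hb)
    have e : (fun a : Γ(Spec R, ⊤) =>
        a • ((DCoh.Rpush π).map ((DerivedCategory.singleFunctor Y.Modules 0).map e₀) ≫ τ)) =
        (fun g => (DCoh.Rpush π).map g ≫ τ) ∘
        ((fun g : F ⟶ W₁ => (DerivedCategory.singleFunctor Y.Modules 0).map g) ∘
          (fun a : Γ(Spec R, ⊤) => (π.appTop a : Γ(Y, ⊤)) • e₀)) := by
      funext a
      simp only [Function.comp_apply]
      rw [Functor.map_smul, (inter_rpush π a).map_smul, Linear.smul_comp]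
    rw [e]
    exact b3
  exact orth_cone (R := Γ(Spec R, ⊤)) _ hT (fun i hi g => hom_shift_eq_zero eW hW i hi g)
    (fun g => end_eq_smul eW g) ha hb'

/-- The top cohomology of `Rπ_* F` in positive degrees vanishes. -/
theorem isZero_top [IsRegularRing R] [IsProper π] [HasInjectiveResolutions Y.Modules]
    (eW : W ≅ Coh.structureModule (Spec R)) (hU : Univ π (DCoh.inD (Spec R) W) (DCoh.inD Y W₁))
    (hF : Coh.IsCoh F) (hE : ∀ i : ℕ, 0 < i → ∀ g : DCoh.inD Y F ⟶ (DCoh.inD Y W₁)⟦(i : ℤ)⟧, g = 0)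
    (e₀ : F ⟶ W₁) (hb : Function.Bijective (fun a : Γ(Spec R, ⊤) => (π.appTop a : Γ(Y, ⊤)) • e₀))
    (n : ℕ) (hM : ((DCoh.Rpush π).obj (DCoh.inD Y F)).IsLE ((n + 1 : ℕ) : ℤ)) :
    IsZero (DCoh.HD ((DCoh.Rpush π).obj (DCoh.inD Y F)) ((n + 1 : ℕ) : ℤ)) := by
  obtain ⟨τ, hU⟩ := hU
  have hO : Coh.IsQCoh (Coh.structureModule (Spec R)) := CurvesC.UnitCoh.isQCoh_unit (Spec R)
  have hW : Coh.IsQCoh W := K104.RelCore.isQCoh_of_iso eW.symm hO
  let m : ℤ := ((n + 1 : ℕ) : ℤ)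
  let M := (DCoh.Rpush π).obj (DCoh.inD Y F)
  let G : (Spec R).Modules := DCoh.HD M m
  have hG : Coh.IsCoh G := by
    have h1 := S0036.result π F hF (n + 1)
    exact PerfA.CohSerre.isCoh_of_iso (PerfC.RpushSingle.iso π (n + 1) F).symm h1
  obtain ⟨C, β, δ, hT⟩ := distinguished_cocone_triangle
    ((DCoh.Rpush π).map ((DerivedCategory.singleFunctor Y.Modules 0).map e₀) ≫ τ)
  have h1 : Orth C (DCoh.inD (Spec R) G) :=
    orth_of_isCoh ((orth π eW hW hU hF.1 hE e₀ hb β δ hT).of_iso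
      ((DerivedCategory.singleFunctor _ 0).mapIso eW)) G hG
  let L := (DerivedCategory.singleFunctor (Spec R).Modules m).obj G
  let j : L ≅ (DCoh.inD (Spec R) G)⟦-m⟧ :=
    (((DerivedCategory.singleFunctors (Spec R).Modules).shiftIso (-m) m 0 (by lia)).app G).symm
  let c : DCoh.HD L m ≅ G := (DerivedCategory.singleFunctorCompHomologyFunctorIso (Spec R).Modules m).app G
  obtain ⟨q, hq⟩ := LoccohB.DCalc.exists_hom m M L c.inv
  have hT' := inv_rot_of_distTriang _ hT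
  obtain ⟨g, hg⟩ := Triangle.yoneda_exact₂ _ hT' (q ≫ j.hom) ((h1.shift (-m)) (-1) _)
  have hg0 : g = 0 := hom_shift_eq_zero eW hG.1 (-m) (by lia) g
  rw [hg0, comp_zero] at hg
  have hq0 : q = 0 := (cancel_mono j.hom).1 (Eq.trans hg zero_comp.symm)
  have hc : c.inv = 0 := by
    rw [← hq, hq0, Functor.map_zero]
  have h3 : 𝟙 G = 0 := by rw [← c.inv_hom_id, hc, zero_comp]
  exact (IsZero.iff_id_eq_zero G).2 h3

/-- **The vanishing theorem.** -/
theorem main [IsRegularRing R] [IsProper π] [HasInjectiveResolutions Y.Modules]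
    (eW : W ≅ Coh.structureModule (Spec R)) (hU : Univ π (DCoh.inD (Spec R) W) (DCoh.inD Y W₁))
    (hF : Coh.IsCoh F) (hE : ∀ i : ℕ, 0 < i → ∀ g : DCoh.inD Y F ⟶ (DCoh.inD Y W₁)⟦(i : ℤ)⟧, g = 0)
    (e₀ : F ⟶ W₁) (hb : Function.Bijective (fun a : Γ(Spec R, ⊤) => (π.appTop a : Γ(Y, ⊤)) • e₀))
    (b : ℕ) (hb0 : 0 < b) : IsZero ((Coh.Rpush π b).obj F) := by
  obtain ⟨N, hN⟩ := PerfC.RpushBound.exists_isLE_Rpush π
  have i1 : (DCoh.inD Y F).IsLE 0 :=
    inferInstanceAs (((DerivedCategory.singleFunctor Y.Modules 0).obj _).IsLE 0)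
  have h1 : ((DCoh.Rpush π).obj (DCoh.inD Y F)).IsLE (0 + N) := hN _ 0 (PerfA.QCohD.isQCohD_inD F hF.1) i1
  have h2 : ∀ n : ℕ, ((DCoh.Rpush π).obj (DCoh.inD Y F)).IsLE (n : ℤ) →
      ((DCoh.Rpush π).obj (DCoh.inD Y F)).IsLE 0 := by
    intro n
    induction n with
    | zero => exact fun h => h
    | succ n ih =>
      intro h
      refine ih ((DerivedCategory.isLE_iff _ _).2 fun i hi => ?_)
      rcases eq_or_lt_of_le (show ((n + 1 : ℕ) : ℤ) ≤ i by lia) with h3 | h3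
      · rw [← h3]
        exact isZero_top π eW hU hF hE e₀ hb n h
      · exact (DerivedCategory.isLE_iff _ _).1 h i h3
  have h3 : ((DCoh.Rpush π).obj (DCoh.inD Y F)).IsLE ((0 + N).toNat : ℤ) :=
    (DerivedCategory.isLE_iff _ _).2 fun i hi => (DerivedCategory.isLE_iff _ _).1 h1 i (by lia)
  exact ((DerivedCategory.isLE_iff _ _).1 (h2 _ h3) (b : ℤ) (by lia)).of_iso
    (PerfC.RpushSingle.iso π b F).symm

end Core

end K104.RelCore
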