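import Groth.Agent.Vanish.K104.RelCore
import Groth.Agent.Dual.H310.OpenBC
import Groth.Agent.Dual3.K477.SmoothSep
import Groth.Agent.S3655
import Groth.Agent.S0384

/-!
# Relative duality for a proper morphism of smooth schemes over a field

`π : Y ⟶ X` proper, `X`, `Y` separated of finite type and smooth of relative dimension `d` over a field, `W`, `W₁` top
exterior powers of the differentials of `X`, `Y`.  Then `Hom(Rπ_* N, W) = Hom(N, W₁)` for `N` in `D_QCoh(Y)`.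
-/

set_option autoImplicit false

universe u

open CategoryTheory CategoryTheory.Limits AlgebraicGeometry Pretriangulated

attribute [local instance] HasDerivedCategory.standard

namespace K104.RelDual

open Groth.Agent Groth.Agent.Dual.H310.OpenBC Groth.Agent.Ega1.ADualUniv

instance isSepFT_id (S : Scheme.{u}) : Dual3.IsSepFT (𝟙 S) := ⟨inferInstance, inferInstance, inferInstance⟩

/-- The trivial compactification of a proper morphism. -/
def triv {X Y : Scheme.{u}} (π : Y ⟶ X) [IsProper π] : DEt.Compactification π :=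
  ⟨Y, 𝟙 Y, π, inferInstance, inferInstance, Category.id_comp π⟩

/-- **Relative duality.** -/
theorem univ_smooth {k : Type u} [Field k] {X Y : Scheme.{u}} (d : ℕ) (aX : X ⟶ Spec (CommRingCat.of k))
    (aY : Y ⟶ Spec (CommRingCat.of k)) [Dual3.IsSepFT aX] [Dual3.IsSepFT aY]
    [SmoothOfRelativeDimension d aX] [SmoothOfRelativeDimension d aY] (π : Y ⟶ X) [IsProper π]
    (w : π ≫ aX = aY) [DCoh.HasRpush π] {W : X.Modules} {W₁ : Y.Modules}
    (hW : ExtPow.IsExtPow d (Omega.sheaf aX) W) (hW₁ : ExtPow.IsExtPow d (Omega.sheaf aY) W₁)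
    (hQ : Coh.IsQCoh W₁) : Univ π (DCoh.inD X W) (DCoh.inD Y W₁) := by
  subst w
  let S := Spec (CommRingCat.of k)
  have hSn : IsNoetherian S := inferInstance
  obtain ⟨cX⟩ : Nonempty (DEt.Compactification aX) := by
    obtain ⟨P, j, g, h1, -, h3, h4⟩ := S0384.result aX
    exact ⟨⟨P, j, g, h1, h3, h4⟩⟩
  obtain ⟨cY⟩ : Nonempty (DEt.Compactification (π ≫ aX)) := by
    obtain ⟨P, j, g, h1, -, h3, h4⟩ := S0384.result (π ≫ aX)
    exact ⟨⟨P, j, g, h1, h3, h4⟩⟩
  have hcX : IsNoetherian cX.Xbar := isNoetherian_of_finiteType cX.fbar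
  have hcY : IsNoetherian cY.Xbar := isNoetherian_of_finiteType cY.fbar
  have hXn : IsNoetherian X := isNoetherian_of_finiteType aX
  have hYn : IsNoetherian Y := isNoetherian_of_finiteType (π ≫ aX)
  have hrX : DCoh.HasRpush cX.fbar := PerfA.ExtPush.hasRpush _
  have hrY : DCoh.HasRpush cY.fbar := PerfA.ExtPush.hasRpush _
  have hX := preservesQCoh cX.fbar
  have hY := preservesQCoh cY.fbar
  have hπQ : DCoh.RpushPreservesQCoh π := preservesQCoh π
  have hlX : (DCoh.RpushQ cX.fbar hX).IsLeftAdjoint := isLeftAdjoint_rpushQ _ hX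
  have hlY : (DCoh.RpushQ cY.fbar hY).IsLeftAdjoint := isLeftAdjoint_rpushQ _ hY
  have hl : (DCoh.RpushQ π hπQ).IsLeftAdjoint := isLeftAdjoint_rpushQ π hπQ
  let a := (DCoh.RpushQ cX.fbar hX).rightAdjoint
  let adja : DCoh.RpushQ cX.fbar hX ⊣ a := Adjunction.ofIsLeftAdjoint _
  let b := (DCoh.RpushQ cY.fbar hY).rightAdjoint
  let adjb : DCoh.RpushQ cY.fbar hY ⊣ b := Adjunction.ofIsLeftAdjoint _
  let c := (DCoh.RpushQ π hπQ).rightAdjoint
  let adjc : DCoh.RpushQ π hπQ ⊣ c := Adjunction.ofIsLeftAdjoint _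
  have : DCoh.HasRpush (triv π).fbar := ‹DCoh.HasRpush π›
  have hres : ∀ K : DCoh.D cX.Xbar, DCoh.IsQCohD K → DCoh.IsQCohD ((DCoh.restrictD cX.j).obj K) := fun K hK =>
    PerfA.QCohD.isQCohD_restrictD cX.j hK
  have hpf : ∀ (U V : Scheme.{u}) (j : U ⟶ V) [IsOpenImmersion j],
      PreservesFiniteLimits (Scheme.Modules.restrictFunctor j) := fun U V j _ => inferInstance
  obtain ⟨θ⟩ := S3655.result S Y X S (π ≫ aX) aX (𝟙 S) π aX rfl (Category.comp_id aX) (triv π) cX cY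
    hπQ hX hY c a b adjc adja adjb hres
  let O : DCoh.DQCoh S :=
    ⟨DCoh.inD _ (Coh.structureModule _), PerfA.QCohD.isQCohD_inD _ (Fdesc.StructMod.isQCoh_structureModule _)⟩
  have hOb : Dual3.IsBddBelowQ _ O := ⟨0, inferInstanceAs (DerivedCategory.IsGE (DCoh.inD _ _) 0)⟩
  obtain ⟨eX⟩ := K477.SmoothSep.main d aX cX.j cX.fbar cX.fac O.property ⟨Iso.refl _⟩
    (univ_of_adj (h := hX) adja O) W hW
  obtain ⟨eY⟩ := K477.SmoothSep.main d (π ≫ aX) cY.j cY.fbar cY.fac O.property ⟨Iso.refl _⟩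
    (univ_of_adj (h := hY) adjb O) W₁ hW₁
  let D : DCoh.DQCoh X := ⟨(Dual3.shriekC cX a).obj O, hres _ (a.obj O).property⟩
  have e1 : (Dual3.shriekC cY b).obj O ≅ (DCoh.restrictD (𝟙 Y)).obj (c.obj D).obj := θ.app ⟨O, hOb⟩
  have e2 : (DCoh.restrictD (𝟙 Y)).obj (c.obj D).obj ≅ (c.obj D).obj :=
    (LoccohB.AdStruct.restrictDId Y).app (c.obj D).obj
  have hq : DCoh.IsQCohD (DCoh.inD Y W₁) := PerfA.QCohD.isQCohD_inD _ hQ
  have h1 : Univ π D.obj (c.obj D).obj := univ_of_adj (h := hπQ) adjc D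
  have h2 : Univ π ((DCoh.inD X W)⟦(d : ℤ)⟧) ((DCoh.inD Y W₁)⟦(d : ℤ)⟧) :=
    (h1.of_iso_left (e2.symm ≪≫ e1.symm ≪≫ eY) (PerfA.QCohD.isQCohD_shift hq _)).of_iso_right eX
  exact RelCore.univ_of_shift π (d : ℤ) h2 hq

end K104.RelDual
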