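import Groth.Agent.Fdesc.LocGen
import Groth.Agent.LoccohB.SectLin303

/-!
# A generator of the direct image gives a generator of the maps from the structure sheaf
-/

set_option autoImplicit false

universe u

open CategoryTheory CategoryTheory.Limits AlgebraicGeometry TopologicalSpace Opposite

namespace K104.RelSec

open Groth.Agent Groth.Agent.Fdesc Groth.Agent.Fdesc.LocGen Groth.Agent.LoccohB.SectLin303

section One

variable {Y : Scheme.{u}} {M : Y.Modules}

theorem sec_smul (c : Γ(Y, ⊤)) (s : Coh.structureModule Y ⟶ M) : sec (c • s) ⊤ = c • sec s ⊤ := by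
  have h1 : sec (LoccohB.HHmap.smulHom (Coh.structureModule Y) c) ⊤ = c • one (X := Y) ⊤ := by
    have h := LoccohB.HHmap.smulHom_app (Coh.structureModule Y) c ⊤ (one ⊤)
    rw [LoccohB.GlueHom.resO_self] at h
    exact h
  have h2 : sec (c • s) ⊤ = s.app ⊤ (sec (LoccohB.HHmap.smulHom (Coh.structureModule Y) c) ⊤) := rfl
  rw [h2, h1, Scheme.Modules.Hom.app_smul]
  rfl

theorem sec_bijective : Function.Bijective (fun s : Coh.structureModule Y ⟶ M => sec s ⊤) :=
  ⟨fun _ _ h => hom_ext_sec h, fun m => ⟨homOf m, by simp⟩⟩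

/-- Bijectivity on the level of maps from that on sections. -/
theorem bijective_hom {A : Type u} (c : A → Γ(Y, ⊤)) (m : Γ(M, ⊤))
    (hm : Function.Bijective (fun a : A => c a • m)) :
    Function.Bijective (fun a : A => c a • homOf m) := by
  rw [← sec_bijective.of_comp_iff']
  convert hm using 1
  funext a
  simp only [Function.comp_apply]
  rw [sec_smul]
  congr 1
  simp

end One

section Push

variable {X X' : Scheme.{u}} (τ : X' ⟶ X) {G : X.Modules} {G₁ : X'.Modules}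

theorem bijective_app (eG : G ≅ (Scheme.Modules.pushforward τ).obj G₁) {V : X.Opens} {e : Γ(G, V)}
    (he : IsGen e) (m : Γ(G₁, τ ⁻¹ᵁ V)) (hm : m = eG.hom.app V e) :
    Function.Bijective (fun a : Γ(X, V) => (τ.app V a : Γ(X', τ ⁻¹ᵁ V)) • m) := by
  have h1 : IsGen (eG.hom.app V e) := he.app eG.hom
  subst hm
  exact h1.bijective

theorem bijective_res {U U' : X'.Opens} (h : U' = U) {A : Type u} (c : A → Γ(X', U)) (m : Γ(G₁, U))
    (hm : Function.Bijective (fun a : A => c a • m)) :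
    Function.Bijective (fun a : A => ores h.le (c a) • res G₁ h.le m) := by
  subst h
  simpa using hm

/-- The transport of a generator of `τ_* G₁` over `V`. -/
theorem exists_section (eG : G ≅ (Scheme.Modules.pushforward τ).obj G₁) {V : X.Opens} {e : Γ(G, V)}
    (he : IsGen e) :
    ∃ s : Coh.structureModule (τ ⁻¹ᵁ V).toScheme ⟶ G₁.restrict (τ ⁻¹ᵁ V).ι,
      Function.Bijective (fun a : Γ(V.toScheme, ⊤) =>
        ((τ ∣_ V).appTop a : Γ((τ ⁻¹ᵁ V).toScheme, ⊤)) • s) := by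
  have hV : V.ι ''ᵁ ⊤ ≤ V := V.ι_image_top.le
  let m : Γ(G₁, τ ⁻¹ᵁ (V.ι ''ᵁ ⊤)) := eG.hom.app (V.ι ''ᵁ ⊤) (res G hV e)
  have h1 := bijective_app τ eG (he.res hV) m rfl
  have hU : (τ ⁻¹ᵁ V).ι ''ᵁ ⊤ = τ ⁻¹ᵁ (V.ι ''ᵁ ⊤) := image_morphismRestrict_preimage τ V ⊤
  have h2 := bijective_res hU _ m h1
  refine ⟨homOf (toRestrict (M := G₁) (τ ⁻¹ᵁ V).ι (U := ⊤) (res G₁ hU.le m)), ?_⟩
  refine bijective_hom _ _ ?_
  rw [← (toRestrict (M := G₁) (τ ⁻¹ᵁ V).ι (U := ⊤)).symm.bijective.of_comp_iff']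
  have key : (toRestrict (M := G₁) (τ ⁻¹ᵁ V).ι (U := ⊤)).symm ∘ (fun a : Γ(V.toScheme, ⊤) =>
      ((τ ∣_ V).appTop a : Γ((τ ⁻¹ᵁ V).toScheme, ⊤)) •
        toRestrict (M := G₁) (τ ⁻¹ᵁ V).ι (U := ⊤) (res G₁ hU.le m)) =
      (fun a : Γ(X, V.ι ''ᵁ ⊤) => ores hU.le (τ.app (V.ι ''ᵁ ⊤) a) • res G₁ hU.le m) := by
    funext a
    simp only [Function.comp_apply]
    rw [toRestrict_symm_smul, AddEquiv.symm_apply_apply]
    have e1 : ((τ ⁻¹ᵁ V).ι.appIso ⊤).inv ((τ ∣_ V).appTop a) = ores hU.le (τ.app (V.ι ''ᵁ ⊤) a) := by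
      rw [Scheme.Opens.ι_appIso]
      have h := congr(($(morphismRestrict_appTop τ V)) a)
      exact h
    rw [e1]
  exact key ▸ h2

end Push

end K104.RelSec
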