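import Groth.Agent.Vanish.K104.RelDual
import Groth.Agent.Vanish.K104.RelCore
import Groth.Agent.Vanish.K104.InvHom
import Groth.Agent.Vanish.K104.RelSec
import Groth.Agent.Krr.H469.VanBC
import Groth.Agent.Ega3B.TensRestrict
import Groth.Agent.PicF.K246.Basic
import Groth.Agent.Fdesc.LocGenPullback
import Groth.Agent.Ega1.TensorRestrict
import Groth.Agent.CohqA.DirectSum
import Groth.Agent.OmegaSh.K583.ExtPowPull
import Groth.Agent.Dual.H328.ClopenGlue
import Groth.Agent.Sga67.BlowReg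
import Groth.Agent.Lefpen.H705.ClosedPoint

/-!
# Vanishing of the higher direct images of `P` from those of `ω ⊗ P⁻¹`

`τ : X' ⟶ X` proper, `X`, `X'` smooth over `k` of the same dimension with canonical modules `W`, `W₁`, `P ⊗ Q = O`.
If `R^i τ_*(W₁ ⊗ Q) = 0` for `i > 0` and `τ_*(W₁ ⊗ Q)` is invertible, then `R^b τ_* P = 0` for `b > 0`.
-/

set_option autoImplicit false

universe u

open CategoryTheory CategoryTheory.Limits AlgebraicGeometry TopologicalSpace Opposite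

attribute [local instance] HasDerivedCategory.standard

namespace K104.RelVan

open Groth.Agent Groth.Agent.Fdesc Groth.Agent.LoccohB.SectLin303 Groth.Agent.Ega1.ADualUniv

theorem subsingleton_HH_of_isZero {X S : Scheme.{u}} (π : X ⟶ S) [QuasiCompact π] [QuasiSeparated π] [IsAffine S]
    (M : X.Modules) (hM : Coh.IsQCoh M) (p : ℕ) (h : IsZero ((Coh.Rpush π p).obj M)) :
    Subsingleton (Coh.HH X M p) := by
  have h4 := (Ega3B.RpushAbCmp.isZero_RpushAb_iff π M p).2 h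
  have hM' : Coh.IsQCoh M := hM
  obtain ⟨e⟩ := S0032.result π M p
  have h5 : IsZero (((Coh.RpushAb π p).obj (Coh.toAb M)).obj.obj (op ⊤)) :=
    Functor.map_isZero (sheafToPresheaf _ _ ⋙ (evaluation _ _).obj (op ⊤)) h4
  have h6 := AddCommGrpCat.subsingleton_of_isZero h5
  exact e.toEquiv.subsingleton

theorem isExtPow_restrict {X S : Scheme.{u}} (f : X ⟶ S) [QuasiSeparated f] (U : X.Opens) {n : ℕ} {W : X.Modules}
    (hW : ExtPow.IsExtPow n (Omega.sheaf f) W) :
    ExtPow.IsExtPow n (Omega.sheaf (U.ι ≫ f)) (W.restrict U.ι) := by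
  obtain ⟨e⟩ := Dual.H328.ClopenGlue.nonempty_omega_restrict f U
  exact K583.ExtPowPull.isExtPow_of_iso_left (Dual.H328.ClopenGlue.isQCoh_omega _) e
    (Dual.H375.ExtRestr.isExtPow_restrict U hW)

theorem isExtPow_pullback {X X₁ S : Scheme.{u}} (f : X ⟶ S) [QuasiSeparated f] (j : X₁ ⟶ X) [IsOpenImmersion j]
    {n : ℕ} {W : X.Modules} (hW : ExtPow.IsExtPow n (Omega.sheaf f) W) :
    ExtPow.IsExtPow n (Omega.sheaf (j ≫ f)) ((Scheme.Modules.pullback j).obj W) :=
  K583.ExtPowPull.isExtPow_of_iso_left (Dual.H328.ClopenGlue.isQCoh_omega _)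
    (Smoothlim.ConormalRes.omegaRestrictIso (f := f) (f' := j ≫ f) (j := j) (l := 𝟙 S) (by rw [Category.comp_id]))
    (K583.ExtPowPull.isExtPow_pullback j (Dual.H328.ClopenGlue.isQCoh_omega f) hW)

theorem isCoh_of_isInvertible {X : Scheme.{u}} {L : X.Modules} (hL : PicF.IsInvertible L) : Coh.IsCoh L := by
  refine PerfA.CohSerre.isCoh_of_isFinLocFree fun x => ?_
  obtain ⟨U, hU, ⟨e⟩⟩ := hL x
  refine ⟨U, 1, hU, ⟨e ≪≫ ?_⟩⟩
  exact (Limits.coproductUniqueIso (fun _ : Fin 1 => Coh.structureModule (↑U : Scheme.{u}))).symm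

theorem comp_left {V W S : Scheme.{u}} (j : W ⟶ V) [IsOpenImmersion j] (f : V ⟶ S) (m : ℕ)
    (h : SmoothOfRelativeDimension m f) : SmoothOfRelativeDimension m (j ≫ f) := by
  have h3 : SmoothOfRelativeDimension (0 + m) (j ≫ f) := inferInstance
  rwa [Nat.zero_add] at h3

section Local

variable {k : Type u} [Field k] (n : ℕ) {X X' : Scheme.{u}} (f : X ⟶ Spec (CommRingCat.of k)) (τ : X' ⟶ X)
  [IsSeparated f] [LocallyOfFiniteType f] [QuasiCompact f] [IsProper τ]
  [SmoothOfRelativeDimension n f] [SmoothOfRelativeDimension n (τ ≫ f)]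

/-- The local statement. -/
theorem subsingleton_local {W : X.Modules} {W₁ : X'.Modules} (hW : ExtPow.IsExtPow n (Omega.sheaf f) W)
    (hW₁ : ExtPow.IsExtPow n (Omega.sheaf (τ ≫ f)) W₁) (hQ₁ : Coh.IsQCoh W₁) {P Q : X'.Modules}
    (hP : PicF.IsInvertible P) (hQ : Coh.IsQCoh Q) (e : CohB1.tensorMod P Q ≅ Coh.structureModule X')
    {G : X.Modules} (eG : G ≅ (Scheme.Modules.pushforward τ).obj (CohB1.tensorMod W₁ Q))
    [HasInjectiveResolutions X'.Modules]
    (hR : ∀ i : ℕ, 0 < i → IsZero ((Coh.Rpush τ i).obj (CohB1.tensorMod W₁ Q)))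
    {V : X.Opens} (hV : IsAffineOpen V) {w : Γ(W, V)} (hw : LocGen.IsGen w) {g : Γ(G, V)} (hg : LocGen.IsGen g)
    (b : ℕ) (hb : 0 < b) : Subsingleton (Coh.HH (τ ⁻¹ᵁ V).toScheme (P.restrict (τ ⁻¹ᵁ V).ι) b) := by
  let R : CommRingCat.{u} := Γ(X, V)
  let Y : Scheme.{u} := (τ ⁻¹ᵁ V).toScheme
  let j : Y ⟶ X' := (τ ⁻¹ᵁ V).ι
  let π : Y ⟶ Spec R := (τ ∣_ V) ≫ hV.isoSpec.hom
  let aR : Spec R ⟶ Spec (CommRingCat.of k) := hV.fromSpec ≫ f
  let aY : Y ⟶ Spec (CommRingCat.of k) := j ≫ τ ≫ f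
  have hw' : π ≫ aR = aY := by
    change ((τ ∣_ V) ≫ hV.isoSpec.hom) ≫ hV.fromSpec ≫ f = (τ ⁻¹ᵁ V).ι ≫ τ ≫ f
    rw [Category.assoc, IsAffineOpen.isoSpec_hom_fromSpec_assoc, morphismRestrict_ι_assoc]
  -- the base
  have hXn : IsLocallyNoetherian X := LocallyOfFiniteType.isLocallyNoetherian f
  have hX'n : IsLocallyNoetherian X' := LocallyOfFiniteType.isLocallyNoetherian (τ ≫ f)
  have hYn : IsLocallyNoetherian Y := LocallyOfFiniteType.isLocallyNoetherian j
  have hRn : IsNoetherianRing R := IsLocallyNoetherian.component_noetherian ⟨V, hV⟩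
  have hsm : Smooth f := SmoothOfRelativeDimension.smooth n f
  have hReg : IsRegularRing R := Sga67.BlowReg.isRegularRing_of_stalks hV fun x _ =>
    Lefpen.H705.ClosedPoint.isRegularLocalRing_stalk f x
  have hiV : IsAffine V.toScheme := hV
  have hπp : IsProper π := inferInstanceAs (IsProper ((τ ∣_ V) ≫ hV.isoSpec.hom))
  have haR1 : SmoothOfRelativeDimension n aR := comp_left hV.fromSpec f n inferInstance
  have haY1 : SmoothOfRelativeDimension n aY := comp_left j (τ ≫ f) n inferInstance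
  have haRs : IsSeparated aR := inferInstance
  have haRq : QuasiCompact aR := inferInstance
  have haR : Dual3.IsSepFT aR := ⟨inferInstance, inferInstance, inferInstance⟩
  have haY : Dual3.IsSepFT aY := by
    rw [← hw']
    exact ⟨inferInstance, inferInstance, inferInstance⟩
  have hrp : DCoh.HasRpush π := PerfA.ExtPush.hasRpush _
  -- the modules
  let WR : (Spec R).Modules := (Scheme.Modules.pullback hV.fromSpec).obj W
  have hWR : ExtPow.IsExtPow n (Omega.sheaf aR) WR := isExtPow_pullback f hV.fromSpec hW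
  obtain ⟨eW⟩ : Nonempty (WR ≅ Coh.structureModule (Spec R)) := by
    have h1 : LocGen.IsGen (LocGen.pullSec hV.fromSpec w) := hw.pullSec hV.fromSpec
    have h2 : hV.fromSpec ⁻¹ᵁ V = ⊤ := hV.fromSpec_preimage_self
    exact K246.Basic.nonempty_iso_of_isGen_top (h1.res h2.ge)
  have hWY : ExtPow.IsExtPow n (Omega.sheaf aY) (W₁.restrict j) := isExtPow_restrict (τ ≫ f) (τ ⁻¹ᵁ V) hW₁
  have hQY : Coh.IsQCoh (W₁.restrict j) := PerfA.QCohSerre.isQCoh_restrict _ hQ₁
  have hU : Univ π (DCoh.inD (Spec R) WR) (DCoh.inD Y (W₁.restrict j)) :=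
    K104.RelDual.univ_smooth n aR aY π hw' hWR hWY hQY
  have hF : Coh.IsCoh (P.restrict j) := CohqB.LocalQC.isCoh_restrict _ (isCoh_of_isInvertible hP)
  let T := CohB1.tensorMod W₁ Q
  let θ : T.restrict j ≅ CohB1.tensorMod (W₁.restrict j) (Q.restrict j) := Ega3B.TensRestrict.restrictIso j W₁ Q
  let e' : CohB1.tensorMod (P.restrict j) (Q.restrict j) ≅ Coh.structureModule Y :=
    (Ega3B.TensRestrict.restrictIso j P Q).symm ≪≫ (Scheme.Modules.restrictFunctor j).mapIso e ≪≫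
      Dcoh.Restrict.restrictUnit j
  have hTq : Coh.IsQCoh T := Ega1.TensorRestrict.isQCoh_tensorMod _ _ hQ₁ hQ
  let iY : Y.Over (Spec (CommRingCat.of k)) := ⟨aY⟩
  have hE : ∀ i : ℕ, 0 < i → ∀ g : DCoh.inD Y (P.restrict j) ⟶ (DCoh.inD Y (W₁.restrict j))⟦(i : ℤ)⟧, g = 0 := by
    intro i hi g
    refine K104.InvHom.hom_zero k e' i ?_ g
    have h1 : Subsingleton (Coh.HH Y (T.restrict j) i) :=
      Krr.H469.VanBC.subsingleton_HH_of_isZero τ T hTq i ((Ega3B.RpushAbCmp.isZero_RpushAb_iff τ T i).2 (hR i hi)) V hV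
    exact CohqA.DirectSum.subsingleton_of_iso θ i h1
  obtain ⟨s, hs⟩ := K104.RelSec.exists_section τ eG hg
  have hs' : Function.Bijective (fun a : Γ(Spec R, ⊤) => (π.appTop a : Γ(Y, ⊤)) • (s ≫ θ.hom)) := by
    have b1 : Function.Bijective (fun g : Coh.structureModule Y ⟶ T.restrict j => g ≫ θ.hom) :=
      (θ.homToEquiv (Z := Coh.structureModule Y)).bijective
    have b2 : Function.Bijective (fun a : Γ(Spec R, ⊤) => (hV.isoSpec.hom.appTop a : Γ(V.toScheme, ⊤))) :=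
      have hi : IsIso (hV.isoSpec.hom.app ⊤) := inferInstance
      ConcreteCategory.bijective_of_isIso (hV.isoSpec.hom.app ⊤)
    convert b1.comp (hs.comp b2) using 1
    funext a
    simp only [Function.comp_apply]
    rw [Linear.smul_comp]
    congr 1
  obtain ⟨e₀, he₀⟩ := K104.InvHom.exists_hom e' (fun a : Γ(Spec R, ⊤) => (π.appTop a : Γ(Y, ⊤))) (s ≫ θ.hom) hs'
  have hz := K104.RelCore.main π eW hU hF hE e₀ he₀ b hb
  exact subsingleton_HH_of_isZero π _ hF.1 b hz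

/-- **Vanishing of higher direct images by duality.** -/
theorem main {W : X.Modules} {W₁ : X'.Modules} (hW : ExtPow.IsExtPow n (Omega.sheaf f) W)
    (hWi : PicF.IsInvertible W)
    (hW₁ : ExtPow.IsExtPow n (Omega.sheaf (τ ≫ f)) W₁) (hQ₁ : Coh.IsQCoh W₁) {P Q : X'.Modules}
    (hP : PicF.IsInvertible P) (hQ : Coh.IsQCoh Q) (e : CohB1.tensorMod P Q ≅ Coh.structureModule X')
    {G : X.Modules} (hG : PicF.IsInvertible G)
    (eG : G ≅ (Scheme.Modules.pushforward τ).obj (CohB1.tensorMod W₁ Q))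
    [HasInjectiveResolutions X'.Modules]
    (hR : ∀ i : ℕ, 0 < i → IsZero ((Coh.Rpush τ i).obj (CohB1.tensorMod W₁ Q)))
    (b : ℕ) (hb : 0 < b) : IsZero ((Coh.Rpush τ b).obj P) := by
  have hX'n : IsLocallyNoetherian X' := LocallyOfFiniteType.isLocallyNoetherian (τ ≫ f)
  have hPq : Coh.IsQCoh P := (isCoh_of_isInvertible hP).1
  refine (Ega3B.RpushAbCmp.isZero_RpushAb_iff τ P b).1 (CohqB.RelVan.isZero_RpushAb_of_cover τ P hPq b fun x => ?_)
  obtain ⟨U₁, w, hx₁, hw⟩ := (LocGen.isInvertible_iff W).1 hWi x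
  obtain ⟨U₂, g, hx₂, hg⟩ := (LocGen.isInvertible_iff G).1 hG x
  obtain ⟨V, hV, hxV, hVU⟩ := exists_isAffineOpen_mem_and_subset (x := x) (U := U₁ ⊓ U₂) ⟨hx₁, hx₂⟩
  exact ⟨V, hxV, hV, subsingleton_local n f τ hW hW₁ hQ₁ hP hQ e eG hR hV
    (hw.res (fun y hy => (hVU hy).1)) (hg.res (fun y hy => (hVU hy).2)) b hb⟩

end Local

end K104.RelVan
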